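import Cfsg.Agent.H572.RV.Weight
import Cfsg.Agent.H572.RV.Cen

/-!
# S4247, row PSp, task W: the weights of an abelian subgroup

`weights_perm`: `D` abelian of odd order prime to the characteristic, normalised by `H` of odd order, in a group of isometries:
`|H : C_H(D)|` divides `k!` for some `k` with `2 k ≤ dim [V, D]`.
-/

set_option autoImplicit false
set_option linter.unusedSectionVars false

namespace Cfsg.Agent.H990.DP

open Module Cfsg.Agent.H167.OP Cfsg.Agent.H170.HL Cfsg.Agent.H572.RV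

section closed

variable {L : Type*} [Field L] {V : Type*} [AddCommGroup V] [Module L V] {G : Type*} [Group G] [Finite G]

/-- the nontrivial weights -/
def Om (ρ : Representation L G V) (D : Subgroup G) : Type _ :=
  {χ : D → L // χ ≠ 1 ∧ ∃ v ∈ Wt ρ D χ, v ≠ 0}

theorem finite_Om [FiniteDimensional L V] (ρ : Representation L G V) {D : Subgroup G}
    (hD : (Nat.card D : L) ≠ 0) (hab : ∀ a ∈ D, ∀ b ∈ D, a * b = b * a) : Finite (Om ρ D) := by
  have h1 : Set.Finite {χ : D → L | Wt ρ D χ ≠ ⊥} :=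
    WellFoundedGT.finite_ne_bot_of_iSupIndep (indep_Wt ρ hD hab)
  have h2 : Set.Finite {χ : D → L | χ ≠ 1 ∧ ∃ v ∈ Wt ρ D χ, v ≠ 0} := by
    refine h1.subset ?_
    rintro χ ⟨-, v, hv, hv0⟩ h
    apply hv0
    rw [h] at hv
    exact (Submodule.mem_bot L).1 hv
  exact h2.to_subtype

theorem card_Om_le [FiniteDimensional L V] (ρ : Representation L G V) {D : Subgroup G}
    (hD : (Nat.card D : L) ≠ 0) (hab : ∀ a ∈ D, ∀ b ∈ D, a * b = b * a) :
    Nat.card (Om ρ D) ≤ finrank L (CV ρ D) := by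
  have := finite_Om ρ hD hab
  have := Fintype.ofFinite (Om ρ D)
  rw [Nat.card_eq_fintype_card]
  exact card_le_finrank ρ hD hab (fun i : Om ρ D => i.1) Subtype.val_injective (fun i => i.2.1)
    (fun i => i.2.2)

theorem nrm_of {D H : Subgroup G} (hn : H ≤ Subgroup.normalizer (D : Set G)) (y : H) : Nrm (y : G) D :=
  fun d hd => (Subgroup.mem_normalizer_iff.1 (hn y.2) d).1 hd

theorem tw_ne_one {y : G} {D : Subgroup G} (hn : Nrm y D) {χ : D → L} (h : χ ≠ 1) : tw hn χ ≠ 1 := by
  intro h1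
  apply h
  funext d
  have h2 := congrFun h1 ⟨y * d * y⁻¹, hn d d.2⟩
  have h3 : tw hn χ ⟨y * d * y⁻¹, hn d d.2⟩ = χ d := by
    unfold tw
    congr 1
    apply Subtype.ext
    show y⁻¹ * (y * (d : G) * y⁻¹) * y = d
    group
  rw [h3] at h2
  exact h2

/-- the action on the weights -/
def actOm (ρ : Representation L G V) {D H : Subgroup G} (hn : H ≤ Subgroup.normalizer (D : Set G)) :
    MulAction H (Om ρ D) where
  smul y χ := ⟨tw (nrm_of hn y) χ.1, tw_ne_one _ χ.2.1, by
    obtain ⟨v, hv, hv0⟩ := χ.2.2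
    exact ⟨ρ y v, tw_mem ρ (nrm_of hn y) hv, ap_ne_zero ρ hv0 _⟩⟩
  one_smul χ := by
    apply Subtype.ext
    funext d
    refine congrArg χ.1 (a₁ := ⟨((1 : H) : G)⁻¹ * (d : G) * ((1 : H) : G), _⟩) (a₂ := d)
      (Subtype.ext ?_)
    simp
  mul_smul x y χ := by
    apply Subtype.ext
    funext d
    refine congrArg χ.1 (a₁ := ⟨((x * y : H) : G)⁻¹ * (d : G) * ((x * y : H) : G), _⟩)
      (a₂ := ⟨(y : G)⁻¹ * ((x : G)⁻¹ * (d : G) * (x : G)) * (y : G), _⟩) (Subtype.ext ?_)
    show ((x : G) * (y : G))⁻¹ * (d : G) * ((x : G) * (y : G)) =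
      (y : G)⁻¹ * ((x : G)⁻¹ * (d : G) * (x : G)) * (y : G)
    group

/-- pairs of inverse weights -/
def prs (ρ : Representation L G V) (D : Subgroup G) : Setoid (Om ρ D) where
  r χ ψ := ψ.1 = χ.1 ∨ ψ.1 = χ.1⁻¹
  iseqv := by
    refine ⟨fun χ => Or.inl rfl, ?_, ?_⟩
    · rintro χ ψ (h | h)
      · exact Or.inl h.symm
      · right
        rw [h, inv_inv]
    · rintro χ ψ φ (h | h) (h' | h')
      · exact Or.inl (h'.trans h)
      · right
        rw [h', h]
      · right
        rw [h', h]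
      · left
        rw [h', h, inv_inv]

/-- the action on the pairs -/
def actP (ρ : Representation L G V) {D H : Subgroup G} (hn : H ≤ Subgroup.normalizer (D : Set G)) :
    MulAction H (Quotient (prs ρ D)) :=
  letI := actOm ρ hn
  { smul := fun y => Quotient.map (fun χ => y • χ) (by
      rintro χ ψ (h | h)
      · left
        show tw (nrm_of hn y) ψ.1 = tw (nrm_of hn y) χ.1
        rw [h]
      · right
        show tw (nrm_of hn y) ψ.1 = (tw (nrm_of hn y) χ.1)⁻¹
        rw [h]
        rfl)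
    one_smul := by
      intro q
      induction q using Quotient.ind with
      | _ χ =>
        show Quotient.mk _ ((1 : H) • χ) = _
        rw [one_smul]
    mul_smul := by
      intro x y q
      induction q using Quotient.ind with
      | _ χ =>
        show Quotient.mk _ ((x * y) • χ) = Quotient.mk _ (x • (y • χ))
        rw [mul_smul] }

theorem odd_pow_mem {H : Subgroup G} (hHo : Odd (Nat.card H)) {y : G} (hy : y ∈ H) {C : Subgroup G}
    (h2 : y ^ 2 ∈ C) : y ∈ C := by
  obtain ⟨j, hj⟩ := hHo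
  have h1 : y ^ Nat.card H = 1 := by
    have := pow_card_eq_one' (x := (⟨y, hy⟩ : H))
    exact congrArg Subtype.val this
  have h3 : y = (y ^ 2) ^ (j + 1) := by
    rw [← pow_mul, show 2 * (j + 1) = Nat.card H + 1 by omega, pow_succ, h1, one_mul]
  rw [h3]
  exact C.pow_mem h2 _

theorem weights_perm_closed [FiniteDimensional L V] [IsAlgClosed L] (ρ : Representation L G V)
    {D H : Subgroup G} (hDo : Odd (Nat.card D)) (hD : (Nat.card D : L) ≠ 0)
    (hab : ∀ a ∈ D, ∀ b ∈ D, a * b = b * a) (hHo : Odd (Nat.card H))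
    (hn : H ≤ Subgroup.normalizer (D : Set G))
    (hinj : ∀ y : G, (∀ d ∈ D, ρ (y * d) = ρ (d * y)) → y ∈ Subgroup.centralizer (D : Set G))
    (f : V →ₗ[L] V →ₗ[L] L)
    (hf : ∀ g u v, f (ρ g u) (ρ g v) = f u v) (hnd : ∀ x, (∀ y, f y x = 0) → x = 0) :
    ∃ k : ℕ, 2 * k ≤ finrank L (CV ρ D) ∧ (Subgroup.centralizer (D : Set G)).relIndex H ∣ k.factorial := by
  classical
  have hfin := finite_Om ρ hD hab
  letI A1 := actOm ρ hn
  letI A2 := actP ρ hn
  refine ⟨Nat.card (Quotient (prs ρ D)), ?_, ?_⟩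
  · refine le_trans ?_ (card_Om_le ρ hD hab)
    -- the inverse weight
    have hiv : ∀ χ : Om ρ D, ∃ ψ : Om ρ D, ψ.1 = χ.1⁻¹ := by
      intro χ
      obtain ⟨v, hv, hv0⟩ := χ.2.2
      obtain ⟨w, hw, hw0⟩ := inv_weight ρ hD hab f hf hnd hv hv0
      exact ⟨⟨χ.1⁻¹, fun h => χ.2.1 (inv_eq_one.1 h), w, hw, hw0⟩, rfl⟩
    choose iv hiv using hiv
    have hne : ∀ χ : Om ρ D, iv χ ≠ χ := by
      intro χ h
      have h1 : χ.1 = χ.1⁻¹ := by
        conv_lhs => rw [← h]
        exact hiv χ
      obtain ⟨v, hv, hv0⟩ := χ.2.2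
      apply χ.2.1
      funext d
      have h9 := congrFun h1 d
      rw [Pi.inv_apply] at h9
      have h10 := pow_card_eq hv hv0 d
      have h0 : χ.1 d ≠ 0 := by
        intro h0
        rw [h0, zero_pow Nat.card_pos.ne'] at h10
        exact zero_ne_one h10
      refine eq_one_of_sq hDo h10 ?_
      nth_rewrite 2 [h9]
      exact mul_inv_cancel₀ h0
    have hmk : ∀ χ : Om ρ D, (Quotient.mk (prs ρ D) (iv χ)) = Quotient.mk (prs ρ D) χ := by
      intro χ
      refine Quotient.sound ?_
      right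
      rw [hiv χ, inv_inv]
    have h1 : Nat.card (Quotient (prs ρ D) × Bool) ≤ Nat.card (Om ρ D) := by
      refine Nat.card_le_card_of_injective
        (fun x : Quotient (prs ρ D) × Bool => if x.2 then x.1.out else iv x.1.out) ?_
      rintro ⟨q, b⟩ ⟨q', b'⟩ h
      have hq : ∀ x : Quotient (prs ρ D) × Bool,
          Quotient.mk (prs ρ D) (if x.2 then x.1.out else iv x.1.out) = x.1 := by
        rintro ⟨q, b⟩
        cases b
        · show Quotient.mk (prs ρ D) (iv q.out) = q
          rw [hmk]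
          exact Quotient.out_eq q
        · exact Quotient.out_eq q
      have h2 : q = q' := by
        have h3 := hq ⟨q, b⟩
        have h4 := hq ⟨q', b'⟩
        have h' : (if (q, b).2 then (q, b).1.out else iv (q, b).1.out) =
          (if (q', b').2 then (q', b').1.out else iv (q', b').1.out) := h
        rw [h', h4] at h3
        exact h3.symm
      subst h2
      cases b <;> cases b'
      · rfl
      · exact absurd h (hne _)
      · exact absurd h.symm (hne _)
      · rfl
    rw [Nat.card_prod, Nat.card_eq_fintype_card (α := Bool), Fintype.card_bool] at h1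
    omega
  · set φ : H →* Equiv.Perm (Quotient (prs ρ D)) := MulAction.toPermHom H (Quotient (prs ρ D)) with hφ
    have hker : φ.ker ≤ (Subgroup.centralizer (D : Set G)).subgroupOf H := by
      intro y hy
      rw [Subgroup.mem_subgroupOf]
      refine odd_pow_mem hHo y.2 (hinj _ ?_)
      by_contra hcon
      push Not at hcon
      have hn2 : Nrm ((y : G) ^ 2) D := nrm_pow (nrm_of hn y) 2
      obtain ⟨χ, hχ, v, hv, hv0⟩ := exists_moved ρ hD hab hn2 hcon
      apply hχ
      have hχ1 : χ ≠ 1 := by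
        rintro rfl
        apply hχ
        rfl
      have h1 := (MonoidHom.mem_ker).1 hy
      let χ' : Om ρ D := ⟨χ, hχ1, v, hv, hv0⟩
      have h2 : φ y (Quotient.mk (prs ρ D) χ') = Quotient.mk (prs ρ D) χ' := by
        rw [h1]
        rfl
      have h3 : Quotient.mk (prs ρ D) (y • χ') = Quotient.mk (prs ρ D) χ' := h2
      have h5 : tw hn2 χ = tw (nrm_of hn y) (tw (nrm_of hn y) χ) := by
        funext d
        show χ ⟨((y : G) ^ 2)⁻¹ * (d : G) * (y : G) ^ 2, _⟩ =
          χ ⟨(y : G)⁻¹ * ((y : G)⁻¹ * (d : G) * (y : G)) * (y : G), _⟩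
        congr 1
        apply Subtype.ext
        show ((y : G) ^ 2)⁻¹ * (d : G) * (y : G) ^ 2 =
          (y : G)⁻¹ * ((y : G)⁻¹ * (d : G) * (y : G)) * (y : G)
        rw [pow_two]
        group
      rw [h5]
      rcases Quotient.exact h3 with h4 | h4
      · have h4' : χ = tw (nrm_of hn y) χ := h4
        rw [← h4', ← h4']
      · have h4' : χ = (tw (nrm_of hn y) χ)⁻¹ := h4
        have h6 : tw (nrm_of hn y) χ = χ⁻¹ := by
          conv_rhs => rw [h4', inv_inv]
        rw [h6]
        have h7 : tw (nrm_of hn y) χ⁻¹ = (tw (nrm_of hn y) χ)⁻¹ := rfl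
        rw [h7, h6, inv_inv]
    have h1 : (Subgroup.centralizer (D : Set G)).relIndex H ∣ φ.ker.index :=
      Subgroup.index_dvd_of_le hker
    refine h1.trans ?_
    rw [Subgroup.index_ker, ← Nat.card_perm]
    exact Subgroup.card_subgroup_dvd_card _

end closed

section gen

variable {F : Type*} [Field F] [Finite F] {V : Type*} [AddCommGroup V] [Module F V] [Finite V]
  [FiniteDimensional F V] {G : Type*} [Group G] [Finite G]
  {ρ : Representation F G V} {f : V →ₗ[F] V →ₗ[F] F}

/-- **Task W** -/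
theorem weights_perm (h : FRep ρ f) {D H : Subgroup G} (hDo : Odd (Nat.card D)) (hD : (Nat.card D : F) ≠ 0)
    (hab : ∀ a ∈ D, ∀ b ∈ D, a * b = b * a) (hHo : Odd (Nat.card H)) (hn : H ≤ Subgroup.normalizer (D : Set G)) :
    ∃ k : ℕ, 2 * k ≤ finrank F (CV ρ D) ∧ (Subgroup.centralizer (D : Set G)).relIndex H ∣ k.factorial := by
  obtain ⟨f', hf', hnd'⟩ := exists_form_bc (AlgebraicClosure F) ρ f h.iso h.nd
  obtain ⟨k, hk, hd⟩ := weights_perm_closed (bc (AlgebraicClosure F) ρ) hDo (card_cast_bc _ hD) hab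
    hHo hn (fun y hy => by
      rw [Subgroup.mem_centralizer_iff]
      intro d hd
      have h1 := hy d hd
      by_contra hne
      refine bc_ne (AlgebraicClosure F) ρ (g := y * d) (h := d * y) (fun h2 => hne ?_) h1
      exact (h.inj h2).symm) f' hf' hnd'
  exact ⟨k, hk.trans (finrank_CV_bc _ ρ D), hd⟩

end gen

end Cfsg.Agent.H990.DP
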